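import Cfsg.Agent.TH.Ex.Mg.Grp
import Cfsg.Agent.TH.Ex.Mu.Defs
import Cfsg.Agent.TH.Sv.Lin2

/-!
# S3541: the numerical conditions for a family of commuting simple subgroups (helper74)

`Cfsg.Agent.TH.Ex.Mg.boxGrp : Mu.BoxGrp`.
-/

set_option autoImplicit false
set_option linter.unusedSectionVars false

namespace Cfsg.Agent.TH.Ex.Mg

open Subgroup Cfsg.Agent.TH.Ex.Mu

/-! ### lists -/

theorem prod_eq {α : Type*} {l : List α} (hl : l.Nodup) [Fintype {S | S ∈ l}] (f : α → ℕ) :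
    ∏ S : {S | S ∈ l}, f S.1 = (l.map f).prod := by
  classical
  rw [← List.prod_toFinset f hl]
  exact (Finset.prod_subtype l.toFinset (fun _ => List.mem_toFinset) f).symm

theorem sy_eq (l : List ℕ) : ∀ s : Finset ℕ, (∀ a ∈ l, a ∈ s) → sy l = ∏ v ∈ s, (l.count v).factorial := by
  induction l with
  | nil => intro s _; simp [sy]
  | cons a l ih =>
    intro s hs
    have ha := hs a List.mem_cons_self
    rw [sy, ih s fun b hb => hs b (List.mem_cons_of_mem _ hb), ← Finset.mul_prod_erase s _ ha,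
      ← Finset.mul_prod_erase s _ ha, List.count_cons_self, Nat.factorial_succ, mul_assoc]
    congr 2
    exact Finset.prod_congr rfl fun v hv => by rw [List.count_cons_of_ne (Finset.ne_of_mem_erase hv).symm]

theorem card_fiber {α : Type*} {l : List α} (hl : l.Nodup) (f : α → ℕ) (v : ℕ) :
    Nat.card {S : {S | S ∈ l} // f S.1 = v} = (l.map f).count v := by
  classical
  rw [List.count_eq_countP, List.countP_map, List.countP_eq_length_filter,
    ← List.toFinset_card_of_nodup (hl.filter _), ← Nat.card_eq_finsetCard]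
  exact Nat.card_congr ((Equiv.subtypeSubtypeEquivSubtypeInter (· ∈ l) fun a => f a = v).trans
    (Equiv.subtypeEquivRight fun a => by simp))

/-- a group of permutations of the members of `l` which keep `f` -/
theorem card_dvd_sy {α : Type*} {l : List α} (hl : l.Nodup) (f : α → ℕ) (P : Subgroup (Equiv.Perm {S | S ∈ l}))
    (h : ∀ g ∈ P, ∀ S, f (g S).1 = f S.1) : Nat.card P ∣ sy (l.map f) := by
  classical
  have := l.finite_toSet.fintype
  let Q : Subgroup (Equiv.Perm {S | S ∈ l}) :=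
    { carrier := {g | (fun S : {S | S ∈ l} => f S.1) ∘ g = fun S => f S.1}
      one_mem' := rfl
      mul_mem' := fun {a b} ha hb => funext fun S => (congrFun ha (b S)).trans (congrFun hb S)
      inv_mem' := fun {a} ha => funext fun S => by simpa using (congrFun ha (a⁻¹ S)).symm }
  refine (card_dvd_of_le (show P ≤ Q from fun g hg => funext (h g hg))).trans (dvd_of_eq ?_)
  rw [sy_eq _ (Finset.univ.image fun S : {S | S ∈ l} => f S.1) fun a ha => by
    obtain ⟨b, hb, rfl⟩ := List.mem_map.1 ha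
    exact Finset.mem_image.2 ⟨⟨b, hb⟩, Finset.mem_univ _, rfl⟩]
  refine (Nat.card_eq_fintype_card (α := {g : Equiv.Perm {S | S ∈ l} //
    (fun S : {S | S ∈ l} => f S.1) ∘ g = fun S => f S.1})).trans ((DomMulAct.stabilizer_card' _).trans ?_)
  exact Finset.prod_congr rfl fun v _ => by rw [← card_fiber hl, Nat.card_eq_fintype_card]

theorem two_of {α β : Type*} {l : List α} (hl : l.Nodup) {e : α → β} {x y : β} (h : Two (l.map e) x y) :
    ∃ S ∈ l, ∃ S' ∈ l, S ≠ S' ∧ e S = x ∧ e S' = y := by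
  obtain ⟨i, j, hij, hi, hj⟩ := h
  rw [List.getElem?_map, Option.map_eq_some_iff] at hi hj
  obtain ⟨S, h1, h2⟩ := hi
  obtain ⟨S', h3, h4⟩ := hj
  refine ⟨S, List.mem_of_getElem? h1, S', List.mem_of_getElem? h3, fun h5 => hij ?_, h2, h4⟩
  obtain ⟨h6, -⟩ := List.getElem?_eq_some_iff.1 h1
  exact (List.getElem?_inj h6 hl).1 (by rw [h1, h3, h5])

/-! ### groups -/

variable {G : Type} [Group G] [Finite G] {T H S : Subgroup G} {𝓢 : Set (Subgroup G)} {m p : ℕ}

theorem card_inf_mul (A B : Subgroup G) : Nat.card ↥(A ⊓ B) * A.relIndex B = Nat.card B := by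
  rw [← (A.subgroupOf B).card_mul_index, ← inf_subgroupOf_right,
    Nat.card_congr (subgroupOfEquivOfLe (inf_le_right : A ⊓ B ≤ B)).toEquiv, inf_subgroupOf_right]
  rfl

theorem card_cent (y : T) : Nat.card ↥(centralizer {(y : G)} ⊓ T) = Nat.card (centralizer ({y} : Set T)) := by
  rw [← Nat.card_congr (subgroupOfEquivOfLe (inf_le_right : centralizer {(y : G)} ⊓ T ≤ T)).toEquiv,
    inf_subgroupOf_right]
  congr 2
  ext z
  rw [mem_subgroupOf, mem_centralizer_singleton_iff, mem_centralizer_singleton_iff, Subtype.ext_iff]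
  rfl

/-- a group of order dividing 6 is generated by two elements -/
theorem gen_two {K : Subgroup G} (h : Nat.card K ∣ 6) : ∃ s : Fin 2 → G, closure (Set.range s) = K := by
  have h1 : ∀ r, r.Prime → ∃ a ∈ K, r ∣ Nat.card K → r ∣ orderOf a := fun r hr => by
    by_cases h2 : r ∣ Nat.card K
    · have := Fact.mk hr
      obtain ⟨a, ha⟩ := exists_prime_orderOf_dvd_card' r h2
      exact ⟨a, a.2, fun _ => by rw [orderOf_coe, ha]⟩
    · exact ⟨1, K.one_mem, fun h3 => absurd h3 h2⟩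
  obtain ⟨a, ha, h2⟩ := h1 2 Nat.prime_two
  obtain ⟨b, hb, h3⟩ := h1 3 Nat.prime_three
  refine ⟨![a, b], eq_of_le_of_card_ge ((closure_le _).2 ?_) ?_⟩
  · rintro _ ⟨i, rfl⟩
    fin_cases i
    exacts [ha, hb]
  · have h4 := (closure (Set.range ![a, b])).orderOf_dvd_natCard (x := a) (Subgroup.subset_closure ⟨0, rfl⟩)
    have h5 := (closure (Set.range ![a, b])).orderOf_dvd_natCard (x := b) (Subgroup.subset_closure ⟨1, rfl⟩)
    have h6 : 0 < Nat.card (closure (Set.range ![a, b])) := Nat.card_pos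
    have h7 := fun h => (h2 h).trans h4
    have h8 := fun h => (h3 h).trans h5
    have h9 := Nat.le_of_dvd (by norm_num) h
    generalize Nat.card (closure (Set.range ![a, b])) = n at *
    generalize Nat.card K = k at *
    interval_cases k <;> omega

/-- the direct product -/
theorem exists_prod (h : Mul T H 𝓢) [Fintype 𝓢] : ∃ φ : (∀ S : 𝓢, S.1) →* G, Function.Injective φ ∧
    φ.range ≤ H ⊓ T ∧ (∀ a ∈ H, ∀ x ∈ φ.range, a * x * a⁻¹ ∈ φ.range) ∧
    ∀ [DecidableEq 𝓢] (S : 𝓢) (x : S.1), φ (Pi.mulSingle S x) = x := by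
  classical
  obtain ⟨φ, h1, h2, h3⟩ := h.exists_prod
  refine ⟨φ, h1, h2.trans (inf_le_inf_right T inf_le_left), fun a ha => ?_, h3⟩
  rintro _ ⟨v, rfl⟩
  have h4 : v ∈ (cj a⁻¹ φ.range).comap φ := Subgroup.pi_mem_of_mulSingle_mem v fun S => by
    refine mem_comap.2 (mem_cj.2 ?_)
    rw [h3, inv_inv]
    exact ⟨Pi.mulSingle ⟨cj a S.1, h.perm a ha S.1 S.2⟩ ⟨_, conj_mem_cj a (v S).2⟩, h3 _ _⟩
  simpa using mem_cj.1 (mem_comap.1 h4)

/-- the elements of prime order of `H ⊓ T` -/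
theorem ncard_le (h : Mul T H 𝓢) [Fintype 𝓢] {s k : ℕ} (hs : s.Prime) (hk : (∏ S : 𝓢, Nat.card S.1) * k = Nat.card ↥(H ⊓ T))
    (hn : ¬ s ∣ k) : {y : ↥(H ⊓ T) | orderOf y = s}.ncard ≤ ∏ S : 𝓢, {y : S.1 | y ^ s = 1}.ncard := by
  obtain ⟨φ, h1, h2, h3, -⟩ := exists_prod h
  have h4 : (φ.range.subgroupOf (H ⊓ T)).Normal := ⟨fun x hx a => h3 a a.2.1 x hx⟩
  have h5 : (φ.range.subgroupOf (H ⊓ T)).index = k := by
    refine Nat.eq_of_mul_eq_mul_left (Nat.card_pos (α := φ.range.subgroupOf (H ⊓ T))) ?_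
    rw [card_mul_index, ← hk, Nat.card_congr (subgroupOfEquivOfLe h2).toEquiv,
      ← Nat.card_congr (MonoidHom.ofInjective h1).toEquiv, Nat.card_pi]
  simp only [← Nat.card_coe_set_eq]
  rw [← Nat.card_pi]
  have h6 : ∀ y : {y : ↥(H ⊓ T) | orderOf y = s}, ∃ v : ∀ S : 𝓢, {y : S.1 | y ^ s = 1}, φ (fun S => v S) = y.1 := by
    rintro ⟨y, hy⟩
    obtain ⟨j, hj⟩ := exists_pow_eq_self_of_coprime (x := y) (n := k)
      (by rw [show orderOf y = s from hy]; exact ((Nat.Prime.coprime_iff_not_dvd hs).2 hn).symm)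
    obtain ⟨v, hv⟩ : y ∈ φ.range.subgroupOf (H ⊓ T) := hj ▸ pow_mem (h5 ▸ pow_index_mem _ y) j
    have h7 : v ^ s = 1 := h1 (by
      rw [map_pow, map_one, hv, ← show orderOf y = s from hy]
      exact congrArg Subtype.val (pow_orderOf_eq_one y))
    exact ⟨fun S => ⟨v S, congrFun h7 S⟩, hv⟩
  choose F hF using h6
  exact Nat.card_le_card_of_injective F fun a b hab => Subtype.ext (Subtype.ext (by rw [← hF, ← hF, hab]))

/-- the centralizer of an element of a member contains the other members -/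
theorem prod_mul_le (h : Mul T H 𝓢) [Fintype 𝓢] (hS : S ∈ 𝓢) {y : G} (hy : y ∈ S) :
    (∏ S : 𝓢, Nat.card S.1) * orderOf y ≤ Nat.card S * Nat.card ↥(centralizer {y} ⊓ T) := by
  classical
  obtain ⟨φ, h1, h2, -, h3⟩ := exists_prod h
  let Q := (zpowers (⟨y, hy⟩ : S)).comap (Pi.evalMonoidHom (fun U : 𝓢 => U.1) ⟨S, hS⟩)
  have h4 : Q.index = (zpowers (⟨y, hy⟩ : S)).index := index_comap_of_surjective _ (Function.surjective_eval _)
  have h5 : Q.map φ ≤ centralizer {y} ⊓ T := by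
    rintro _ ⟨v, ⟨j, hj⟩, rfl⟩
    refine ⟨mem_centralizer_singleton_iff.2 ?_, (h2 ⟨v, rfl⟩).2⟩
    have h6 := h3 ⟨S, hS⟩ ⟨y, hy⟩
    rw [← show _ = y from h6, ← map_mul, ← map_mul]
    refine congrArg φ (funext fun U => ?_)
    by_cases h7 : U = ⟨S, hS⟩
    · subst h7
      rw [Pi.mul_apply, Pi.mul_apply, Pi.mulSingle_eq_same, ← show _ = v ⟨S, hS⟩ from hj]
      exact (Commute.refl _).zpow_left j
    · rw [Pi.mul_apply, Pi.mul_apply, Pi.mulSingle_eq_of_ne h7, mul_one, one_mul]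
  have h6 := card_le_of_le h5
  rw [card_map_of_injective h1] at h6
  rw [← Nat.card_pi, ← Q.card_mul_index, h4, ← (zpowers (⟨y, hy⟩ : S)).card_mul_index, Nat.card_zpowers,
    ← orderOf_coe]
  calc _ = orderOf y * (zpowers (⟨y, hy⟩ : S)).index * Nat.card Q := by ring
    _ ≤ _ := Nat.mul_le_mul_left _ h6

theorem card_dvd (h : Mul T H 𝓢) [Fintype 𝓢] : ∃ P : Subgroup (Equiv.Perm 𝓢),
    (∀ g ∈ P, ∀ S, Nat.card (g S).1 = Nat.card S.1) ∧
      Nat.card ↥(H ⊓ T) ∣ (∏ S : 𝓢, Nat.card (MulAut S.1)) * Nat.card P := by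
  have h1 : Mul.core H 𝓢 ⊓ T ≤ H ⊓ T := inf_le_inf_right T inf_le_left
  let ψ := h.act.comp (inclusion (inf_le_left : H ⊓ T ≤ H))
  have h2 : ψ.ker = (Mul.core H 𝓢 ⊓ T).subgroupOf (H ⊓ T) := by
    ext a
    exact (SetLike.ext_iff.1 h.act_ker _).trans ⟨fun h3 => ⟨h3, a.2.2⟩, fun h3 => h3.1⟩
  refine ⟨ψ.range, ?_, ?_⟩
  · rintro _ ⟨a, rfl⟩ U
    exact card_cj (a : G) U.1
  · rw [← ψ.ker.card_mul_index, index_ker, h2, Nat.card_congr (subgroupOfEquivOfLe h1).toEquiv]
    exact Nat.mul_dvd_mul_right h.core_dvd _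

theorem exists_ord {s : ℕ} (hs : s.Prime) (h : s ∣ Nat.card S) : ∃ y ∈ S, orderOf y = s := by
  have := Fact.mk hs
  obtain ⟨y, hy⟩ := exists_prime_orderOf_dvd_card' s h
  exact ⟨y, y.2, by rw [orderOf_coe, hy]⟩

theorem boxGrp : BoxGrp := by
  intro G _ _ T H m p c b cb l e C h hl hI hc hb hcb
  have := Fintype.ofFinite {S | S ∈ l}
  have hT := C.as
  have hH := C.half
  have hE : ∏ S : {S | S ∈ l}, Nat.card S.1 = EE (l.map e) := by
    rw [EE, List.map_map, ← prod_eq hl]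
    exact Finset.prod_congr rfl fun S _ => (hI S.1 S.2).card
  have hpos : 0 < EE (l.map e) := hE ▸ Finset.prod_pos fun _ _ => Nat.card_pos
  obtain ⟨k, hk⟩ : EE (l.map e) ∣ Nat.card ↥(H ⊓ T) :=
    hE ▸ h.prod_dvd.trans (card_dvd_of_le (inf_le_inf_right T inf_le_left))
  have hO := hT.card_inf_mul hH
  have hX : 0 < Nat.card ↥(H ⊓ T) := Nat.card_pos
  have haa : ∀ s, s.Prime → {y : ↥(H ⊓ T) | orderOf y = s}.ncard ≤ aa (l.map e) k s := fun s hs => by
    unfold aa
    split_ifs with h1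
    · rw [← hk]
      exact Set.ncard_le_card _
    · refine (ncard_le h hs (by rw [hE, hk]) h1).trans ?_
      rw [List.map_map, ← prod_eq hl]
      refine Finset.prod_le_prod' fun S _ => ?_
      simp only [Function.comp]
      split_ifs with h2
      · exact (hI S.1 S.2).cnt s hs
      · rw [Set.ncard_le_one]
        have h3 : ∀ y : S.1, y ^ s = 1 → y = 1 := fun y hy => by
          refine orderOf_eq_one_iff.1 (((Nat.dvd_prime hs).1 (orderOf_dvd_of_pow_eq_one hy)).resolve_right fun h4 => h2 ?_)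
          rw [← (hI S.1 S.2).card, ← h4]
          exact orderOf_dvd_natCard y
        exact fun a ha b hb => (h3 a ha).trans (h3 b hb).symm
  have hcen : ∀ S ∈ l, ∀ S' ∈ l, S ≠ S' → ∀ y ∈ S, (orderOf y).Prime → orderOf y ≠ p →
      Nat.card ↥(centralizer {y} ⊓ T) ≤ cb (orderOf y) (e S').R := fun S hS S' hS' hne y hy h1 h2 => by
    have h3 := hcb S hS S' hS' hne ⟨y, (h.le S hS hy).2⟩ hy
    rw [← orderOf_coe] at h3
    exact (card_cent ⟨y, (h.le S hS hy).2⟩).trans_le (h3 h1 h2)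
  have hel : ∀ S ∈ l, ∀ y ∈ S, (orderOf y).Prime → ¬ orderOf y ∣ Nat.card H / m →
      (centralizer {y}).relIndex T ≤ Nat.gcd (e S).t (Nat.card H / m) * aa (l.map e) k (orderOf y) :=
    fun S hS y hy h1 h2 => (h.el hT hH hS h1 h2 hy (pow_one _).symm).trans (Nat.mul_le_mul
      ((hI S hS).card ▸ min_le_left _ _) ((ncard_clsIn_le (h.le S hS hy).2).trans (haa _ h1)))
  refine ⟨k, hk ▸ Dvd.intro _ hO, ?_, ?_, C.not_dvd_d, ?_, ?_, ?_, ?_, ?_, ?_, ?_⟩
  · obtain ⟨P, h1, h2⟩ := card_dvd h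
    have h3 := card_dvd_sy hl (fun S => (e S).t) P fun g hg S => by
      rw [← (hI _ (g S).2).card, ← (hI _ S.2).card, h1 g hg]
    have h4 : ∏ S : {S | S ∈ l}, Nat.card (MulAut S.1) ∣ ((l.map e).map Ent.ou).prod * EE (l.map e) := by
      rw [EE, List.map_map, List.map_map, ← prod_eq hl, ← prod_eq hl, ← Finset.prod_mul_distrib]
      exact Finset.prod_dvd_prod_of_dvd _ _ fun S _ => (hI S.1 S.2).aut
    refine Nat.dvd_of_mul_dvd_mul_left hpos ?_
    rw [← hk, ou, ← mul_assoc, mul_comm (EE _), List.map_map (g := Ent.t)]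
    exact h2.trans (Nat.mul_dvd_mul h4 h3)
  · rw [← hk, ← hO, Nat.mul_div_cancel_left _ hX]
    exact hH.d_dvd
  · intro x hx
    obtain ⟨S, hS, rfl⟩ := List.mem_map.1 hx
    rw [Nat.gcd_comm, ← (hI S hS).card]
    exact h.le_gcd hH hS (hI S hS).idx
  · intro x y hxy s hs h1 h2
    obtain ⟨S, hS, S', hS', hne, rfl, rfl⟩ := two_of hl hxy
    rw [← (hI S hS).card] at h1 ⊢
    obtain ⟨z, hz, rfl⟩ := exists_ord hs h1
    rw [← hE]
    exact (prod_mul_le h hS hz).trans (Nat.mul_le_mul_left _ (hcen S hS S' hS' hne z hz hs h2))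
  · intro x y hxy s hs h1 h2 h3
    obtain ⟨S, hS, S', hS', hne, rfl, rfl⟩ := two_of hl hxy
    obtain ⟨z, hz, rfl⟩ := exists_ord hs ((hI S hS).card ▸ h1)
    rw [← card_inf_mul (centralizer {z}) T, mul_comm]
    exact Nat.mul_le_mul (hel S hS z hz hs h3) (hcen S hS S' hS' hne z hz hs h2)
  · intro x y hxy s hs h1 h2
    obtain ⟨S, hS, S', hS', hne, rfl, rfl⟩ := two_of hl hxy
    have h3 := hT.sigma_set hH ({z | orderOf z = s} ∩ S) ((H ⊓ T).subtype '' {z | orderOf z = s})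
      (fun z hz => (h.le S hS hz.2).1) (j := 1) (c := cb s (e S').R) (fun g _ => ?_)
      (fun z hz t ht h4 => ⟨⟨_, h4, T.mul_mem (T.mul_mem (T.inv_mem ht) (h.le S hS hz.2).2) ht⟩, ?_, rfl⟩)
      fun z hz => by
        have h4 : orderOf z = s := hz.1
        exact h4 ▸ hcen S hS S' hS' hne z hz.2 (h4 ▸ hs) (h4 ▸ h2)
    · rw [one_mul, Set.ncard_image_of_injective _ (H ⊓ T).subtype_injective] at h3
      refine h3.trans (Nat.mul_le_mul_right _ (Nat.mul_le_mul ?_ (haa s hs)))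
      rw [← (hI S hS).card]
      exact Set.ncard_le_ncard Set.inter_subset_right
    · have h4 := card_inf_mul (cj g H) S
      obtain ⟨f, hf⟩ := Nat.dvd_gcd (Dvd.intro_left _ h4) (h.relIndex_dvd hH hS g)
      rw [← (hI S hS).card] at h1
      have h5 : s ∣ Nat.card ↥(cj g H ⊓ S) := by
        refine h1.trans ⟨f, Nat.eq_of_mul_eq_mul_right (m := (cj g H).relIndex S)
          (Nat.pos_of_ne_zero index_ne_zero_of_finite) ?_⟩
        rw [h4, mul_assoc, mul_comm f, ← hf, Nat.div_mul_cancel (Nat.gcd_dvd_left _ _)]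
      obtain ⟨z, hz, h6⟩ := exists_ord hs h5
      exact (Set.ncard_pos).2 ⟨z, ⟨h6, hz.2⟩, hz.1⟩
    · refine (orderOf_coe _).symm.trans (Eq.trans ?_ hz.1)
      simpa using (MulAut.conj t⁻¹).orderOf_eq z
  · intro x hx h1
    obtain ⟨S, hS, rfl⟩ := List.mem_map.1 hx
    obtain ⟨z, hz, h2⟩ := exists_ord C.prime ((hI S hS).card ▸ h1)
    refine (hc _ fun h3 => C.prime.ne_one ?_).trans (h2 ▸ hel S hS z hz (h2 ▸ C.prime) (h2 ▸ C.not_dvd_d))
    rw [← h2, orderOf_eq_one_iff, ← mem_bot, ← hT.cent]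
    exact fun t ht => mem_centralizer_singleton_iff.1 (subgroupOf_eq_top.1 h3 ht)
  · rw [← hk, ← hT.card_eq_mul hH]
    refine le_trans (Nat.le_mul_of_pos_left _ (Nat.sub_pos_of_lt hH.one_lt)) ((hT.sigma_index hH hc).trans ?_)
    exact Nat.pow_le_pow_left (Nat.sub_le _ _) 2
  · rw [← hk, ← hT.card_eq_mul hH]
    intro h1 h2 h3
    have := hT.normal
    have h4 := (Sv.boxLin2 G T H m _ 2 hT hH (fun x hx hx1 => ?_) le_rfl fun K hK => gen_two ?_).2.2
    · rw [← hO, mul_comm 3, mul_assoc]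
      exact Nat.mul_le_mul_left _ h4
    · obtain ⟨s, hs, j, hj⟩ := Nat.exists_prime_and_dvd (mt orderOf_eq_one_iff.1 hx1)
      have h5 : orderOf (x ^ j) = s := by
        have h6 : j ≠ 0 := by
          rintro rfl
          exact (orderOf_pos x).ne' hj
        rw [orderOf_pow_of_dvd h6 (Dvd.intro_left _ hj.symm), hj, Nat.mul_div_cancel _ (Nat.pos_of_ne_zero h6)]
      have h6 := hb ⟨x ^ j, T.pow_mem hx.2 j⟩
      rw [← orderOf_coe, ← card_cent] at h6
      have h7 := h6 (h5 ▸ hs) fun h8 => h2 (h8 ▸ orderOf_dvd_natCard _ (pow_mem hx j))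
      have h8 : Nat.card ↥(centralizer {x} ⊓ T) ≤ b := le_trans (card_le_of_le (inf_le_inf_right T fun z hz =>
        mem_centralizer_singleton_iff.2 (Commute.pow_right (mem_centralizer_singleton_iff.1 hz) j))) h7
      refine Nat.le_of_mul_le_mul_right (h3.trans ?_) (lt_of_lt_of_le Nat.card_pos h8)
      rw [← card_inf_mul (centralizer {x}) T, mul_comm]
      exact Nat.mul_le_mul_left _ h8
    · have h5 := card_inf_mul T K
      rw [inf_comm, hK, card_bot, one_mul] at h5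
      exact h5 ▸ (relIndex_dvd_index_of_normal T K).trans h1

end Cfsg.Agent.TH.Ex.Mg
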