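import Cfsg.Agent.TH.ExT.Mu

/-!
# S3541, `G₂(q)` : several simple factors (helper74)
-/

set_option autoImplicit false

namespace Cfsg.Agent.TH.Ex.Mg

open Cfsg Subgroup ExT.Mu

theorem noMul_G2 (k : ℕ) : NoMul fun p T _ => ChevChar Cfsg.Lie.chevG2 k p T := by
  rintro G _ _ T H 𝓢 m p c h ⟨F, _, _, _, -, ⟨e⟩⟩
  by_cases hp : p = 2
  · subst hp
    obtain ⟨S, hS, hT, t, h1, h2, h3⟩ := exists_cent h
    have := h.simple S hS
    obtain ⟨h4, h5, h6⟩ := zp_data (t := e t) (by rw [← map_mul, h1, map_one]) fun h7 => h2 (e.map_eq_one_iff.1 h7)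
    exact c.nown (own h hS (g2 (h.nonab S hS) (e.toMonoidHom.comp (inclusion hT))
      (e.injective.comp (inclusion_injective hT)) h4 h5 fun a => h6 _
        ((map_mul e _ t).symm.trans ((congrArg e (h3 a)).trans (map_mul e t _)))))
  · obtain ⟨E, _, _, g, h1, h2, h3⟩ := sixteen h
    have h4 := H783.EX.g2_card_le (SB.Low.TwoL.two_ne_zero_of p hp) h2 (e.toMonoidHom.comp g) (e.injective.comp h1)
    omega

end Cfsg.Agent.TH.Ex.Mg
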