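import Cfsg.Agent.TH.Ex1.TFb
import Cfsg.Agent.TH.Tri
import Cfsg.Agent.TH.Sv.Nec

/-!
# S3541: general facts for a family `Mul T H 𝓢` of commuting simple subgroups (helper74)
-/

set_option autoImplicit false
set_option linter.unusedSectionVars false

namespace Cfsg.Agent.TH

open Subgroup

variable {G : Type} [Group G] [Finite G] {T H S : Subgroup G} {𝓢 : Set (Subgroup G)} {m p : ℕ}

/-- the elements of `H` which normalise every member of `𝓢` -/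
def Mul.core (H : Subgroup G) (𝓢 : Set (Subgroup G)) : Subgroup G := H ⊓ ⨅ U ∈ 𝓢, normalizer (U : Set G)

theorem Mul.mem_core {x : G} : x ∈ Mul.core H 𝓢 ↔ x ∈ H ∧ ∀ U ∈ 𝓢, cj x U = U :=
  ⟨fun h => ⟨h.1, fun U hU => cj_eq_of_mem_normalizer (mem_iInf.1 (mem_iInf.1 h.2 U) hU)⟩,
    fun h => ⟨h.1, mem_iInf.2 fun U => mem_iInf.2 fun hU => mem_normalizer_of_cj_eq (h.2 U hU)⟩⟩

theorem Mul.le_core (h : Mul T H 𝓢) (hS : S ∈ 𝓢) : S ≤ Mul.core H 𝓢 :=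
  le_inf ((h.le S hS).trans inf_le_left) (le_iInf₂ fun U hU => by
    by_cases h4 : S = U
    · exact h4 ▸ le_normalizer
    · exact fun x hx => centralizer_le_normalizer _ fun y hy => (h.comm S hS U hU h4 x hx y hy).symm)

theorem Mul.core_nrm (h : Mul T H 𝓢) : ∀ a ∈ H, ∀ x ∈ Mul.core H 𝓢, a * x * a⁻¹ ∈ Mul.core H 𝓢 := fun a ha x hx =>
  Mul.mem_core.2 ⟨H.mul_mem (H.mul_mem ha hx.1) (H.inv_mem ha), fun U hU => by
    rw [cj_mul, cj_mul, (Mul.mem_core.1 hx).2 _ (h.perm _ (H.inv_mem ha) U hU), cj_cj_inv]⟩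

theorem Mul.nrm (hS : S ∈ 𝓢) : ∀ a ∈ Mul.core H 𝓢, ∀ x ∈ S, a * x * a⁻¹ ∈ S := fun _ ha _ hx =>
  (Mul.mem_core.1 ha).2 S hS ▸ conj_mem_cj _ hx

theorem Mul.not_lie (h : Mul T H 𝓢) (ho : ¬ HasOwn p H) (hS : S ∈ 𝓢) : ¬ IsLieTypeChar p S := fun h1 => ho <| by
  refine Ex1.hasOwn_hom (inclusion (inf_le_left : Mul.core H 𝓢 ≤ H)) (inclusion_injective _) ?_
    (Cl.Cases.hasOwn_of (h.le_core hS) (Mul.nrm hS) (h.simple S hS) (h.nonab S hS) h1)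
  rw [inclusion_range]
  exact ⟨fun x hx a => h.core_nrm a a.2 x hx⟩

theorem Mul.relIndex_dvd (h : Mul T H 𝓢) (hH : Half H m) (hS : S ∈ 𝓢) (g : G) :
    (cj g H).relIndex S ∣ Nat.card H / m :=
  hH.relIndex_dvd_d₂ inf_le_left h.core_nrm (h.le_core hS) (Mul.nrm hS) g

theorem Mul.exists_index (h : Mul T H 𝓢) (hH : Half H m) (hS : S ∈ 𝓢) :
    ∃ U : Subgroup S, U ≠ ⊤ ∧ U.index ∣ Nat.card H / m := by
  obtain ⟨g, -, hg⟩ := hH.exists_not_le (N := S) (fun h1 => h.nonab S hS (h1 ▸ inferInstance))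
    ((h.le S hS).trans inf_le_left)
  exact ⟨(cj g H).subgroupOf S, fun h1 => hg (subgroupOf_eq_top.1 h1), h.relIndex_dvd hH hS g⟩

theorem Mul.eq_one (h : Mul T H 𝓢) (hS : S ∈ 𝓢) {x : G} (hx : x ∈ S) (hc : ∀ y ∈ S, x * y = y * x) : x = 1 := by
  have := h.simple S hS
  rcases IsSimpleGroup.eq_bot_or_eq_top_of_normal (center S) inferInstance with h1 | h1
  · have h2 : (⟨x, hx⟩ : S) ∈ center S := mem_center_iff.2 fun y => Subtype.ext (hc y y.2).symm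
    rw [h1, mem_bot] at h2
    exact congrArg Subtype.val h2
  · exact absurd (center_eq_top_iff.1 h1) (h.nonab S hS)

/-- the members generate their direct product -/
theorem Mul.exists_prod (h : Mul T H 𝓢) [Fintype 𝓢] : ∃ φ : (∀ S : 𝓢, S.1) →* G, Function.Injective φ ∧
    φ.range ≤ Mul.core H 𝓢 ⊓ T ∧ ∀ [DecidableEq 𝓢] (S : 𝓢) (x : S.1), φ (Pi.mulSingle S x) = x := by
  have h1 : Pairwise fun S U : 𝓢 => ∀ x y : G, x ∈ S.1 → y ∈ U.1 → Commute x y := fun S U hne x y hx hy =>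
    h.comm S.1 S.2 U.1 U.2 (fun e => hne (Subtype.ext e)) x hx y hy
  refine ⟨noncommPiCoprod h1, injective_noncommPiCoprod_of_iSupIndep fun S => disjoint_def.2 fun {x} hx hx' => ?_, ?_,
    fun S x => noncommPiCoprod_mulSingle S x⟩
  · have h2 : ⨆ U : 𝓢, ⨆ _ : U ≠ S, U.1 ≤ centralizer (S.1 : Set G) :=
      iSup₂_le fun U hU y hy z hz => (h1 hU.symm z y hz hy).eq
    exact h.eq_one S.2 hx fun y hy => (h2 hx' y hy).symm
  · rw [noncommPiCoprod_range]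
    exact iSup_le fun S => le_inf (h.le_core S.2) ((h.le S.1 S.2).trans inf_le_right)

theorem Mul.prod_dvd (h : Mul T H 𝓢) [Fintype 𝓢] : ∏ S : 𝓢, Nat.card S.1 ∣ Nat.card ↥(Mul.core H 𝓢 ⊓ T) := by
  obtain ⟨φ, h1, h2, -⟩ := h.exists_prod
  rw [← Nat.card_pi, Nat.card_congr (MonoidHom.ofInjective h1).toEquiv]
  exact card_dvd_of_le h2

theorem Mul.core_dvd (h : Mul T H 𝓢) [Fintype 𝓢] :
    Nat.card ↥(Mul.core H 𝓢 ⊓ T) ∣ ∏ S : 𝓢, Nat.card (MulAut S.1) := by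
  have h1 : ∀ S : 𝓢, Mul.core H 𝓢 ⊓ T ≤ normalizer (S.1 : Set G) := fun S x hx =>
    mem_normalizer_of_cj_eq ((Mul.mem_core.1 hx.1).2 S.1 S.2)
  rw [← Nat.card_pi]
  refine card_dvd_of_injective (MonoidHom.pi fun S : 𝓢 => S.1.normalizerMonoidHom.comp (inclusion (h1 S)))
    ((injective_iff_map_eq_one _).2 fun a ha => Subtype.ext (h.cent a a.2.2 fun S hS x hx => ?_))
  have h2 := congrArg Subtype.val (DFunLike.congr_fun (congrFun ha ⟨S, hS⟩) ⟨x, hx⟩)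
  exact mul_inv_eq_iff_eq_mul.1 h2

/-- the action of `H` on `𝓢` -/
def Mul.act (h : Mul T H 𝓢) : H →* Equiv.Perm 𝓢 := MonoidHom.toHomPerm
  { toFun := fun a S => ⟨cj a S.1, h.perm a a.2 S.1 S.2⟩
    map_one' := funext fun S => Subtype.ext (cj_one S.1)
    map_mul' := fun a b => funext fun S => Subtype.ext (cj_mul (a : G) b S.1) }

theorem Mul.act_ker (h : Mul T H 𝓢) : h.act.ker = (Mul.core H 𝓢).subgroupOf H := by
  ext a
  refine ⟨fun ha => Mul.mem_core.2 ⟨a.2, fun U hU => ?_⟩,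
    fun ha => Equiv.ext fun U => Subtype.ext ((Mul.mem_core.1 ha).2 U.1 U.2)⟩
  have h1 := congrArg Subtype.val (DFunLike.congr_fun (MonoidHom.mem_ker.1 ha) ⟨U, hU⟩)
  exact h1

theorem Mul.card_dvd (h : Mul T H 𝓢) [Fintype 𝓢] :
    Nat.card ↥(H ⊓ T) ∣ (∏ S : 𝓢, Nat.card (MulAut S.1)) * (Fintype.card 𝓢).factorial := by
  have h1 : Mul.core H 𝓢 ⊓ T ≤ H ⊓ T := inf_le_inf_right T inf_le_left
  let ψ := h.act.comp (inclusion (inf_le_left : H ⊓ T ≤ H))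
  have h2 : ψ.ker = (Mul.core H 𝓢 ⊓ T).subgroupOf (H ⊓ T) := by
    ext a
    exact (SetLike.ext_iff.1 h.act_ker _).trans ⟨fun h3 => ⟨h3, a.2.2⟩, fun h3 => h3.1⟩
  rw [← ψ.ker.card_mul_index, index_ker, h2, Nat.card_congr (subgroupOfEquivOfLe h1).toEquiv, ← Nat.card_eq_fintype_card,
    ← Nat.card_perm]
  exact Nat.mul_dvd_mul h.core_dvd ψ.range.card_subgroup_dvd_card

theorem Mul.le_gcd (h : Mul T H 𝓢) (hH : Half H m) (hS : S ∈ 𝓢) {l : ℕ} (hl : ∀ U : Subgroup S, U ≠ ⊤ → l ≤ U.index) :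
    l ≤ Nat.gcd (Nat.card H / m) (Nat.card S) :=
  let ⟨U, h1, h2⟩ := h.exists_index hH hS
  (hl U h1).trans (Nat.le_of_dvd (Nat.gcd_pos_of_pos_right _ Nat.card_pos) (Nat.dvd_gcd h2 U.index_dvd_card))

theorem ncard_clsIn_le {x : G} (hx : x ∈ T) :
    (clsIn T H x).ncard ≤ {y : ↥(H ⊓ T) | orderOf y = orderOf x}.ncard := by
  rw [← Set.ncard_image_of_injective _ (H ⊓ T).subtype_injective]
  refine Set.ncard_le_ncard ?_
  rintro _ ⟨h1, t, ht, rfl⟩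
  refine ⟨⟨_, h1, T.mul_mem (T.mul_mem (T.inv_mem ht) hx) ht⟩, ?_, rfl⟩
  refine (orderOf_coe _).symm.trans ?_
  simpa using (MulAut.conj t⁻¹).orderOf_eq x

/-- `Sv.BoxEl` for an element of a member -/
theorem Mul.el (h : Mul T H 𝓢) (hT : AS T) (hH : Half H m) (hS : S ∈ 𝓢) {s k : ℕ} (hs : s.Prime)
    (hd : ¬ s ∣ Nat.card H / m) {x : G} (hx : x ∈ S) (ho : orderOf x = s ^ k) :
    (centralizer {x}).relIndex T ≤
      min (Nat.gcd (Nat.card S) (Nat.card H / m)) ((centralizer {x}).relIndex S) * (clsIn T H x).ncard :=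
  Sv.boxEl G T H _ S m s k x hT hH hs hd inf_le_left h.core_nrm (h.le_core hS) (Mul.nrm hS) hx ho

end Cfsg.Agent.TH
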